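import Cfsg.Agent.Lib.Sporadic.ThPres.Rep.Letters

set_option autoImplicit false
set_option maxRecDepth 20000
set_option Elab.async false

/-! Relators that evaluate to the identity in degree 248 (owner: helper9). -/

namespace CfsgLib.Sporadic.ThPres.Rep

theorem rel13 : evalWord mats [2, 4, 6, 8, 2, 4, 6, 8, 2, 4, 6, 8, 2, 4, 6, 8, 2, 4, 6, 8, 2, 4, 6, 8, 2, 4, 6, 8, 2, 4, 6, 8] = idEnc := by decide +kernel

theorem rel28 : evalWord mats [15, 1, 14, 0] = idEnc := by decide +kernel

theorem rel2 : evalWord mats [4, 4] = idEnc := by decide +kernel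

theorem inv3 : evalWord mats [3, 2] = idEnc := by decide +kernel

theorem inv11 : evalWord mats [11, 10] = idEnc := by decide +kernel

end CfsgLib.Sporadic.ThPres.Rep
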