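import Cfsg.Agent.Lib.Sporadic.ThPres.Rep.Letters

set_option autoImplicit false
set_option maxRecDepth 20000
set_option Elab.async false

/-! Relators that evaluate to the identity in degree 248 (owner: helper9). -/

namespace CfsgLib.Sporadic.ThPres.Rep

theorem rel33 : evalWord mats [7, 15, 6, 3, 5, 1, 2, 7, 14, 6, 3, 0, 4, 2, 5, 9, 7, 15, 6, 3, 5, 1, 2, 9, 15] = idEnc := by decide +kernel

theorem rel15 : evalWord mats [11, 1, 10, 0] = idEnc := by decide +kernel

theorem rel23 : evalWord mats [13, 5, 12, 4] = idEnc := by decide +kernel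

theorem rel34 : evalWord mats [15, 12, 14, 12] = idEnc := by decide +kernel

theorem inv4 : evalWord mats [4, 5] = idEnc := by decide +kernel

theorem inv12 : evalWord mats [12, 13] = idEnc := by decide +kernel

end CfsgLib.Sporadic.ThPres.Rep
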