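import Cfsg.Agent.Lib.Sporadic.ThPres.Rep.Letters

set_option autoImplicit false
set_option maxRecDepth 20000
set_option Elab.async false

/-! Relators that evaluate to the identity in degree 248 (owner: helper9). -/

namespace CfsgLib.Sporadic.ThPres.Rep

theorem rel37 : evalWord mats [0, 4, 11, 15, 10, 14, 11, 15, 10, 14, 11, 15, 10, 14, 11, 15, 10, 14] = idEnc := by decide +kernel

theorem rel7 : evalWord mats [2, 4, 2, 4, 2, 4] = idEnc := by decide +kernel

theorem rel16 : evalWord mats [11, 3, 10, 2] = idEnc := by decide +kernel

theorem rel24 : evalWord mats [13, 7, 12, 6] = idEnc := by decide +kernel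

theorem rel20 : evalWord mats [12, 12, 12] = idEnc := by decide +kernel

theorem rel4 : evalWord mats [8, 8] = idEnc := by decide +kernel

theorem inv7 : evalWord mats [7, 6] = idEnc := by decide +kernel

theorem inv15 : evalWord mats [15, 14] = idEnc := by decide +kernel

end CfsgLib.Sporadic.ThPres.Rep
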