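import Cfsg.Agent.Lib.Sporadic.ThPres.Rep.Letters
import Cfsg.Agent.Lib.Sporadic.ThPres.Rep.Check0

set_option autoImplicit false
set_option maxRecDepth 20000
set_option Elab.async false

/-! Relators that evaluate to the identity in degree 248 (owner: helper9). -/

namespace CfsgLib.Sporadic.ThPres.Rep

theorem rel35 : evalWord mats [9, 11, 11, 15, 10, 10, 8, 11, 11, 14, 10, 10] = idEnc := by decide +kernel

theorem rel5 : evalWord mats [0, 2, 0, 2, 0, 2] = idEnc := by decide +kernel

theorem rel12 : evalWord mats [6, 8, 6, 8, 6, 8] = idEnc := by decide +kernel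

theorem rel18 : evalWord mats [10, 6, 10, 6] = idEnc := by decide +kernel

theorem rel27 : evalWord mats [14, 14, 5, 1] = idEnc := by decide +kernel

theorem rel1 : evalWord mats [2, 2] = idEnc := by decide +kernel

theorem inv0 : evalWord mats [0, 1] = idEnc := by decide +kernel

theorem inv8 : evalWord mats [8, 9] = idEnc := by decide +kernel

end CfsgLib.Sporadic.ThPres.Rep
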