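import Cfsg.Agent.Lib.Sporadic.ThPres.Rep.Letters
import Cfsg.Agent.Lib.Sporadic.ThPres.Rep.Check1

set_option autoImplicit false
set_option maxRecDepth 20000
set_option Elab.async false

/-! Relators that evaluate to the identity in degree 248 (owner: helper9). -/

namespace CfsgLib.Sporadic.ThPres.Rep

theorem rel32 : evalWord mats [15, 3, 5, 1, 2, 14, 3, 0, 4, 2, 9] = idEnc := by decide +kernel

theorem rel14 : evalWord mats [10, 10, 10, 10, 10, 10, 10] = idEnc := by decide +kernel

theorem rel26 : evalWord mats [13, 10, 12, 11, 11] = idEnc := by decide +kernel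

theorem rel17 : evalWord mats [11, 5, 10, 4] = idEnc := by decide +kernel

theorem rel25 : evalWord mats [13, 9, 12, 8] = idEnc := by decide +kernel

theorem rel0 : evalWord mats [0, 0] = idEnc := by decide +kernel

theorem rel3 : evalWord mats [6, 6] = idEnc := by decide +kernel

theorem inv6 : evalWord mats [6, 7] = idEnc := by decide +kernel

theorem inv14 : evalWord mats [14, 15] = idEnc := by decide +kernel

end CfsgLib.Sporadic.ThPres.Rep
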