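import Cfsg.Agent.Lib.Sporadic.ThPres.Rep.Letters
import Cfsg.Agent.Lib.Sporadic.ThPres.Rep.Check2

set_option autoImplicit false
set_option maxRecDepth 20000
set_option Elab.async false

/-! Relators that evaluate to the identity in degree 248 (owner: helper9). -/

namespace CfsgLib.Sporadic.ThPres.Rep

theorem rel31 : evalWord mats [6, 8, 15, 6, 14, 6, 8, 15, 6, 14] = idEnc := by decide +kernel

theorem rel36 : evalWord mats [0, 4, 11, 15, 11, 15, 11, 15] = idEnc := by decide +kernel

theorem rel6 : evalWord mats [0, 8, 0, 8] = idEnc := by decide +kernel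

theorem rel9 : evalWord mats [2, 8, 2, 8] = idEnc := by decide +kernel

theorem rel21 : evalWord mats [13, 1, 12, 0] = idEnc := by decide +kernel

theorem rel29 : evalWord mats [15, 5, 14, 4] = idEnc := by decide +kernel

theorem inv1 : evalWord mats [1, 0] = idEnc := by decide +kernel

theorem inv9 : evalWord mats [9, 8] = idEnc := by decide +kernel

end CfsgLib.Sporadic.ThPres.Rep
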