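import Cfsg.Agent.Lib.Sporadic.ThPres.Rep.Letters
import Cfsg.Agent.Lib.Sporadic.ThPres.Rep.Check3

set_option autoImplicit false
set_option maxRecDepth 20000
set_option Elab.async false

/-! Relators that evaluate to the identity in degree 248 (owner: helper9). -/

namespace CfsgLib.Sporadic.ThPres.Rep

theorem rel10 : evalWord mats [0, 7, 5, 7, 5, 7, 5, 7, 5] = idEnc := by decide +kernel

theorem rel19 : evalWord mats [9, 11, 8, 11, 11, 9, 10, 10, 10] = idEnc := by decide +kernel

theorem rel8 : evalWord mats [2, 6, 2, 6] = idEnc := by decide +kernel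

theorem rel11 : evalWord mats [4, 8, 4, 8] = idEnc := by decide +kernel

theorem rel22 : evalWord mats [13, 3, 12, 2] = idEnc := by decide +kernel

theorem rel30 : evalWord mats [15, 9, 14, 8] = idEnc := by decide +kernel

theorem inv2 : evalWord mats [2, 3] = idEnc := by decide +kernel

theorem inv10 : evalWord mats [10, 11] = idEnc := by decide +kernel

end CfsgLib.Sporadic.ThPres.Rep
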