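import Cfsg.Agent.Lib.Sporadic.ThPres.Rep.Check0
import Cfsg.Agent.Lib.Sporadic.ThPres.Rep.Check1
import Cfsg.Agent.Lib.Sporadic.ThPres.Rep.Check2
import Cfsg.Agent.Lib.Sporadic.ThPres.Rep.Check3
import Cfsg.Agent.Lib.Sporadic.ThPres.Rep.Check4
import Cfsg.Agent.Lib.Sporadic.ThPres.Rep.Check5
import Cfsg.Agent.Lib.Sporadic.ThPres.Rep.Check6
import Cfsg.Agent.Lib.Sporadic.ThPres.Rep.Check7
import Cfsg.Agent.Lib.Sporadic.ThPres.Letters

/-!
# The representation of the presented Thompson group in degree 248 over three elements (owner: helper9)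
-/

set_option autoImplicit false
set_option maxRecDepth 20000
set_option Elab.async false

namespace CfsgLib.Sporadic.ThPres.Rep

open Cfsg

theorem rows_ok : ((List.range 16).all fun x => rowsOK 248 (mats x)) = true := by decide +kernel

/-- a letter as a matrix -/
noncomputable def mat (x : ℕ) : Mat 248 := toMat 248 (mats x)

theorem rows_of_lt {x : ℕ} (hx : x < 16) : rowsOK 248 (mats x) = true :=
  List.all_eq_true.1 rows_ok x (List.mem_range.2 hx)

theorem evalWord_mat {w : List ℕ} (hw : ∀ x ∈ w, x < 16) : evalWord mats w = enc (w.map mat).prod :=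
  evalWord_eq fun x hx => rows_of_lt (hw x hx)

theorem prod_mat_eq_one {w : List ℕ} (hw : ∀ x ∈ w, x < 16) (h : evalWord mats w = idEnc) :
    (w.map mat).prod = 1 := by
  apply enc_injective
  rw [enc_one, ← h, evalWord_mat hw]

theorem xor_one_lt {x : ℕ} (hx : x < 16) : x ^^^ 1 < 16 := by interval_cases x <;> decide

theorem mat_mul_inv {x : ℕ} (hx : x < 16) : mat x * mat (x ^^^ 1) = 1 := by
  have h : evalWord mats [x, x ^^^ 1] = idEnc := by
    interval_cases x
    exacts [inv0, inv1, inv2, inv3, inv4, inv5, inv6, inv7, inv8, inv9, inv10, inv11, inv12, inv13, inv14, inv15]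
  simpa using prod_mat_eq_one (w := [x, x ^^^ 1]) (by simp [hx, xor_one_lt hx]) h

theorem mat_inv_mul {x : ℕ} (hx : x < 16) : mat (x ^^^ 1) * mat x = 1 := by
  have h := mat_mul_inv (xor_one_lt hx)
  rwa [Nat.xor_assoc, Nat.xor_self, Nat.xor_zero] at h

/-- a letter as a unit -/
noncomputable def unit (x : ℕ) : GL (Fin 248) (ZMod 3) :=
  if hx : x < 16 then ⟨mat x, mat (x ^^^ 1), mat_mul_inv hx, mat_inv_mul hx⟩ else 1

theorem unit_val {x : ℕ} (hx : x < 16) : ((unit x : GL (Fin 248) (ZMod 3)) : Mat 248) = mat x := by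
  simp [unit, hx]

theorem unit_inv {x : ℕ} (hx : x < 16) : (unit x)⁻¹ = unit (x ^^^ 1) := by
  apply Units.ext
  rw [unit_val (xor_one_lt hx)]
  simp [unit, hx]

attribute [irreducible] mat unit

theorem code_lt : ∀ p : Spor.Th.Gen × Bool, code p < 16 := by
  rintro ⟨_ | _ | _ | _ | _ | _ | _ | _, _ | _⟩ <;> decide

theorem code_false : ∀ g : Spor.Th.Gen, code (g, false) = code (g, true) ^^^ 1 := by
  rintro (_ | _ | _ | _ | _ | _ | _ | _) <;> decide

theorem rel_check : ∀ w ∈ relWords, evalWord mats w = idEnc := by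
  intro w hw
  simp only [relWords, List.mem_cons, List.not_mem_nil, or_false] at hw
  rcases hw with rfl | rfl | rfl | rfl | rfl | rfl | rfl | rfl | rfl | rfl | rfl | rfl | rfl | rfl | rfl | rfl | rfl | rfl | rfl | rfl | rfl | rfl | rfl | rfl | rfl | rfl | rfl | rfl | rfl | rfl | rfl | rfl | rfl | rfl | rfl | rfl | rfl | rfl | rfl
  exacts [rel0,rel1,rel2,rel3,rel4,rel5,rel6,rel7,rel8,rel9,rel10,rel11,rel12,rel13,rel14,rel15,rel16,rel17,rel18,rel19,rel20,rel21,rel22,rel23,rel24,rel25,rel26,rel27,rel28,rel29,rel30,rel31,rel32,rel33,rel34,rel35,rel36,rel37,rel38]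

theorem unit_rel {w : List ℕ} (hw : w ∈ relWords) (hlt : ∀ x ∈ w, x < 16) : (w.map unit).prod = 1 := by
  apply Units.ext
  rw [Units.val_one, ← Units.coeHom_apply, map_list_prod, List.map_map]
  rw [← prod_mat_eq_one hlt (rel_check w hw)]
  congr 1
  exact List.map_congr_left fun x hx => unit_val (hlt x hx)

/-- A free-group map agrees with the product of the letters of the reduced word. -/
theorem hom_eq_prod {M : Type*} [Group M] (f : FreeGroup Spor.Th.Gen →* M) (l : ℕ → M)
    (hf : ∀ g, f (FreeGroup.of g) = l (code (g, true)))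
    (hl : ∀ g, (l (code (g, true)))⁻¹ = l (code (g, false))) (r : FreeGroup Spor.Th.Gen) :
    f r = ((lettersOf r).map l).prod := by
  conv_lhs => rw [← FreeGroup.mk_toWord (x := r)]
  rw [lettersOf, List.map_map]
  induction r.toWord with
  | nil => simp [← FreeGroup.one_eq_mk]
  | cons p L ih =>
    rw [show FreeGroup.mk (p :: L) = FreeGroup.mk [p] * FreeGroup.mk L from rfl, map_mul, ih, List.map_cons,
      List.prod_cons]
    congr 1
    obtain ⟨y, e⟩ := p
    cases e with
    | true => exact hf y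
    | false =>
      rw [show FreeGroup.mk [(y, false)] = (FreeGroup.of y)⁻¹ from rfl, map_inv, hf]
      exact hl y

theorem gen_inv (g : Spor.Th.Gen) : (unit (code (g, true)))⁻¹ = unit (code (g, false)) := by
  rw [code_false, unit_inv (code_lt _)]

theorem lettersOf_lt (r : FreeGroup Spor.Th.Gen) : ∀ x ∈ lettersOf r, x < 16 := by
  intro x hx
  obtain ⟨p, -, rfl⟩ := List.mem_map.1 hx
  exact code_lt p

theorem lift_rel (r : FreeGroup Spor.Th.Gen)
    (hr : r ∈ Spor.coxRelators Spor.Th.edges ∪ {r | r ∈ Spor.Th.extra}) :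
    FreeGroup.lift (fun g => unit (code (g, true))) r = 1 := by
  rcases hr with ⟨x, hx, -⟩ | hr
  · simp [Spor.coxNodes, Spor.Th.edges] at hx
  have hmem : lettersOf r ∈ relWords := by
    rw [← relWords_eq]
    exact List.mem_map_of_mem hr
  exact (hom_eq_prod (FreeGroup.lift (fun g => unit (code (g, true)))) unit
    (fun g => FreeGroup.lift_apply_of) gen_inv r).trans (unit_rel hmem (lettersOf_lt r))

/-- The representation. -/
noncomputable def rho : Spor.Th →* GL (Fin 248) (ZMod 3) :=
  PresentedGroup.toGroup (f := fun g => unit (code (g, true))) lift_rel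

theorem rho_of (g : Spor.Th.Gen) : rho (PresentedGroup.of g) = unit (code (g, true)) :=
  PresentedGroup.toGroup.of _

theorem rho_thL {k : ℕ} (hk : k < 16) : rho (thL k) = unit k := by
  have h : ∃ p, code p = k := by
    interval_cases k
    exacts [⟨(.a, true), rfl⟩, ⟨(.a, false), rfl⟩, ⟨(.b, true), rfl⟩, ⟨(.b, false), rfl⟩, ⟨(.c, true), rfl⟩, ⟨(.c, false), rfl⟩, ⟨(.d, true), rfl⟩, ⟨(.d, false), rfl⟩, ⟨(.e, true), rfl⟩, ⟨(.e, false), rfl⟩, ⟨(.s, true), rfl⟩, ⟨(.s, false), rfl⟩, ⟨(.t, true), rfl⟩, ⟨(.t, false), rfl⟩, ⟨(.u, true), rfl⟩, ⟨(.u, false), rfl⟩]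
  obtain ⟨⟨y, e⟩, rfl⟩ := h
  rw [thL_code]
  cases e with
  | true => exact rho_of y
  | false => rw [code_false, ← unit_inv (code_lt _), cond_false, map_inv, rho_of]

theorem rho_prod_val {w : List ℕ} (hw : ∀ x ∈ w, x < 16) :
    ((rho (w.map thL).prod : GL (Fin 248) (ZMod 3)) : Mat 248) = (w.map mat).prod := by
  rw [map_list_prod, List.map_map, ← Units.coeHom_apply, map_list_prod, List.map_map]
  congr 1
  exact List.map_congr_left fun x hx => by
    simp only [Function.comp_apply, rho_thL (hw x hx), Units.coeHom_apply, unit_val (hw x hx)]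

/-- Two words with the same image. -/
theorem rho_eq_of_eval {u v : List ℕ} (hu : ∀ x ∈ u, x < 16) (hv : ∀ x ∈ v, x < 16)
    (h : evalWord mats u = evalWord mats v) : rho (u.map thL).prod = rho (v.map thL).prod := by
  apply Units.ext
  rw [rho_prod_val hu, rho_prod_val hv]
  rw [evalWord_mat hu, evalWord_mat hv] at h
  exact enc_injective h

end CfsgLib.Sporadic.ThPres.Rep
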