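import Cfsg.Agent.Lib.Sporadic.ThPres.Rep.Packed
import Cfsg.Agent.Lib.Sporadic.ThPres.Rep.Data0
import Cfsg.Agent.Lib.Sporadic.ThPres.Rep.Data1
import Cfsg.Agent.Lib.Sporadic.ThPres.Rep.Data2
import Cfsg.Agent.Lib.Sporadic.ThPres.Rep.Data3
import Cfsg.Agent.Lib.Sporadic.ThPres.Rep.Data4
import Cfsg.Agent.Lib.Sporadic.ThPres.Rep.Data5
import Cfsg.Agent.Lib.Sporadic.ThPres.Rep.Data6
import Cfsg.Agent.Lib.Sporadic.ThPres.Rep.Data7

/-!
# The letters as matrices of degree 248 (owner: helper9)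
-/

set_option autoImplicit false
set_option maxRecDepth 20000

namespace CfsgLib.Sporadic.ThPres.Rep

/-- the rows of a letter -/
noncomputable def mats (x : ℕ) : List ℕ :=
  cond (Nat.beq x 0) rows0 (cond (Nat.beq x 1) rows1 (cond (Nat.beq x 2) rows2 (cond (Nat.beq x 3) rows3
  (cond (Nat.beq x 4) rows4 (cond (Nat.beq x 5) rows5 (cond (Nat.beq x 6) rows6 (cond (Nat.beq x 7) rows7
  (cond (Nat.beq x 8) rows8 (cond (Nat.beq x 9) rows9 (cond (Nat.beq x 10) rows10 (cond (Nat.beq x 11) rows11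
  (cond (Nat.beq x 12) rows12 (cond (Nat.beq x 13) rows13 (cond (Nat.beq x 14) rows14 rows15))))))))))))))

end CfsgLib.Sporadic.ThPres.Rep
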