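import Mathlib

/-!
# Matrices over three elements: rows in two-bit slots times packed rows (owner: helper9)
-/

set_option autoImplicit false
set_option maxRecDepth 8000

namespace CfsgLib.Sporadic.ThPres.Rep

/-- pack a tuple into twenty-bit slots -/
def packF : (n : ℕ) → (Fin n → ℕ) → ℕ
  | 0, _ => 0
  | n + 1, f => f 0 + 2 ^ 20 * packF n fun i => f i.succ

theorem packF_add : ∀ (n : ℕ) (f g : Fin n → ℕ), packF n f + packF n g = packF n fun i => f i + g i
  | 0, _, _ => rfl
  | n + 1, f, g => by simp only [packF, ← packF_add n]; ring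

theorem packF_smul : ∀ (n c : ℕ) (f : Fin n → ℕ), c * packF n f = packF n fun i => c * f i
  | 0, _, _ => by simp [packF]
  | n + 1, c, f => by simp only [packF, ← packF_smul n c]; ring

theorem packF_zero : ∀ n : ℕ, packF n (fun _ => 0) = 0
  | 0 => rfl
  | n + 1 => by simp [packF, packF_zero n]

theorem packF_inj : ∀ (n : ℕ) (f g : Fin n → ℕ), (∀ i, f i < 2 ^ 20) → (∀ i, g i < 2 ^ 20) →
    packF n f = packF n g → f = g
  | 0, f, g, _, _, _ => funext fun i => i.elim0
  | n + 1, f, g, hf, hg, h => by
    simp only [packF] at h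
    have h0 : f 0 = g 0 := by
      have := congrArg (· % 2 ^ 20) h
      rwa [Nat.add_mul_mod_self_left, Nat.add_mul_mod_self_left, Nat.mod_eq_of_lt (hf 0),
        Nat.mod_eq_of_lt (hg 0)] at this
    have h1 := packF_inj n _ _ (fun i => hf i.succ) (fun i => hg i.succ)
      (by rw [h0] at h; omega)
    funext i
    refine Fin.cases h0 (fun j => ?_) i
    exact congrFun h1 j

/-- the low nine bits of every slot -/
def maskN : ℕ → ℕ
  | 0 => 0
  | n + 1 => (2 ^ 9 - 1) + 2 ^ 20 * maskN n

theorem land_block {a b c d : ℕ} (ha : a < 2 ^ 20) (hc : c < 2 ^ 20) :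
    (a + 2 ^ 20 * b) &&& (c + 2 ^ 20 * d) = (a &&& c) + 2 ^ 20 * (b &&& d) := by
  have hac : a &&& c < 2 ^ 20 := lt_of_le_of_lt Nat.and_le_left ha
  refine Nat.eq_of_testBit_eq fun i => ?_
  rw [Nat.testBit_and, add_comm a, add_comm c, add_comm (a &&& c),
    Nat.testBit_two_pow_mul_add _ ha, Nat.testBit_two_pow_mul_add _ hc, Nat.testBit_two_pow_mul_add _ hac]
  split <;> simp [Nat.testBit_and]

theorem shift_land : ∀ (n : ℕ) (f : Fin n → ℕ), (∀ i, f i < 2 ^ 20) →
    (packF n f >>> 11) &&& maskN n = packF n fun i => f i / 2 ^ 11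
  | 0, _, _ => by simp [packF, maskN]
  | n + 1, f, hf => by
    simp only [packF, maskN]
    set P := packF n fun i => f i.succ with hP
    have h0 := hf 0
    have hs : (f 0 + 2 ^ 20 * P) >>> 11 =
        (f 0 / 2 ^ 11 + 2 ^ 9 * (P % 2 ^ 11)) + 2 ^ 20 * (P >>> 11) := by
      simp only [Nat.shiftRight_eq_div_pow]
      omega
    have hlt : f 0 / 2 ^ 11 + 2 ^ 9 * (P % 2 ^ 11) < 2 ^ 20 := by omega
    rw [hs, land_block hlt (by norm_num), hP, shift_land n _ fun i => hf i.succ]
    congr 1
    rw [Nat.and_two_pow_sub_one_eq_mod]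
    omega

/-- reduce every slot modulo three -/
noncomputable def red (mask x : ℕ) : ℕ :=
  Nat.sub x (Nat.mul 3 (Nat.land (Nat.shiftRight (Nat.mul x 683) 11) mask))

theorem red_packF {n : ℕ} (f : Fin n → ℕ) (hf : ∀ i, f i ≤ 1500) :
    red (maskN n) (packF n f) = packF n fun i => f i % 3 := by
  show packF n f - 3 * ((packF n f * 683) >>> 11 &&& maskN n) = _
  rw [mul_comm (packF n f), packF_smul, shift_land _ _ fun i => by have := hf i; omega]
  have hq : ∀ i, 683 * f i / 2 ^ 11 = f i / 3 := fun i => by have := hf i; omega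
  simp only [hq]
  rw [packF_smul]
  have : packF n f = packF n (fun i => f i % 3) + packF n fun i => 3 * (f i / 3) := by
    rw [packF_add]
    congr 1
    funext i
    omega
  omega

/-- square matrices over three elements -/
abbrev Mat (n : ℕ) : Type := Matrix (Fin n) (Fin n) (ZMod 3)

/-- an entry of a row in two-bit slots -/
def ent (row j : ℕ) : ℕ := row / 4 ^ j % 4

/-- the matrix of a list of rows in two-bit slots -/
def toMat (n : ℕ) (S : List ℕ) : Mat n :=
  Matrix.of fun i j => ((ent (S.getD i.val 0) j.val : ℕ) : ZMod 3)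

/-- pass the value of a number, not its expression -/
noncomputable def strict {α : Type} (v : ℕ) (k : ℕ → α) : α :=
  Nat.rec (motive := fun _ => α) (k 0) (fun q _ => k (Nat.succ q)) v

theorem strict_eq {α : Type} (v : ℕ) (k : ℕ → α) : strict v k = k v := by cases v <;> rfl

/-- a row in two-bit slots times packed rows -/
noncomputable def dot (R : List ℕ) : ℕ → ℕ :=
  List.rec (motive := fun _ => ℕ → ℕ) (fun _ => 0)
    (fun r _ ih row => cond (Nat.beq (Nat.land row 3) 0) (ih (Nat.shiftRight row 2))
      (Nat.add (Nat.mul (Nat.land row 3) r) (ih (Nat.shiftRight row 2)))) R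

/-- rows times packed rows -/
noncomputable def dmul (mask : ℕ) (S : List ℕ) (R : List ℕ) : List ℕ :=
  List.rec (motive := fun _ => List ℕ) [] (fun row _ ih => strict (red mask (dot R row)) fun v => v :: ih) S

/-- no slot holds three -/
noncomputable def okRow : ℕ → ℕ → Bool :=
  Nat.rec (motive := fun _ => ℕ → Bool) (fun _ => true)
    (fun _ ih row => !(Nat.beq (Nat.land row 3) 3) && ih (Nat.shiftRight row 2))

/-- the side conditions on a matrix -/
noncomputable def rowsOK (n : ℕ) (S : List ℕ) : Bool :=
  Nat.beq S.length n && S.all fun row => okRow n row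

theorem okRow_spec : ∀ n row, okRow n row = true → ∀ j < n, ent row j < 3
  | 0, _, _, j, hj => absurd hj (Nat.not_lt_zero j)
  | n + 1, row, h, j, hj => by
    have h' : (!(Nat.beq (Nat.land row 3) 3) && okRow n (Nat.shiftRight row 2)) = true := h
    rw [Bool.and_eq_true, Bool.not_eq_true'] at h'
    match j with
    | 0 =>
      have h3 : Nat.land row 3 = row % 4 := Nat.and_two_pow_sub_one_eq_mod row 2
      have h4 : row % 4 ≠ 3 := fun e => by rw [h3, e] at h'; simp at h'
      simp only [ent, pow_zero, Nat.div_one]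
      omega
    | j + 1 =>
      have := okRow_spec n _ h'.2 j (by omega)
      rwa [ent, show Nat.shiftRight row 2 = row / 4 from Nat.shiftRight_eq_div_pow row 2,
        Nat.div_div_eq_div_mul, ← pow_succ'] at this

/-- packed form of a matrix -/
def enc {n : ℕ} (A : Mat n) : List ℕ := List.ofFn fun i => packF n fun j => (A i j).val

theorem enc_injective {n : ℕ} : Function.Injective (enc (n := n)) := by
  intro A B h
  have h' := List.ofFn_injective h
  ext i j
  refine ZMod.val_injective 3 ?_
  exact congrFun (packF_inj n _ _ (fun k => (ZMod.val_lt (A i k)).trans_le (by norm_num))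
    (fun k => (ZMod.val_lt (B i k)).trans_le (by norm_num)) (congrFun h' i)) j

theorem dot_ofFn : ∀ (m n row : ℕ) (g : Fin m → Fin n → ℕ),
    dot (List.ofFn fun k => packF n (g k)) row = packF n fun j => ∑ k : Fin m, ent row k.val * g k j
  | 0, n, row, g => by simp [dot, packF_zero]
  | m + 1, n, row, g => by
    have hc : ∀ a X Y : ℕ, cond (Nat.beq a 0) Y (a * X + Y) = a * X + Y := fun a X Y => by
      cases h : Nat.beq a 0 with
      | true => rw [Nat.eq_of_beq_eq_true h]; simp
      | false => rfl
    rw [List.ofFn_succ]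
    show cond (Nat.beq (Nat.land row 3) 0) (dot (List.ofFn fun k => packF n (g k.succ)) (Nat.shiftRight row 2))
      (Nat.land row 3 * packF n (g 0) + dot (List.ofFn fun k => packF n (g k.succ)) (Nat.shiftRight row 2)) = _
    rw [hc, dot_ofFn m n _ _, packF_smul, packF_add]
    congr 1
    funext j
    rw [Fin.sum_univ_succ, show Nat.land row 3 = row % 4 from Nat.and_two_pow_sub_one_eq_mod row 2]
    simp only [ent, Fin.val_zero, pow_zero, Nat.div_one, Fin.val_succ,
      show Nat.shiftRight row 2 = row / 4 from Nat.shiftRight_eq_div_pow row 2, Nat.div_div_eq_div_mul, ← pow_succ']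

theorem dmul_eq_map (mask : ℕ) (R : List ℕ) : ∀ S : List ℕ, dmul mask S R = S.map fun row => red mask (dot R row)
  | [] => rfl
  | row :: S => by
    show strict (red mask (dot R row)) (fun v => v :: dmul mask S R) = _
    rw [strict_eq, dmul_eq_map mask R S, List.map_cons]

theorem dmul_enc {n : ℕ} (hn : n ≤ 248) {S : List ℕ} (hS : rowsOK n S = true) (A : Mat n) :
    dmul (maskN n) S (enc A) = enc (toMat n S * A) := by
  simp only [rowsOK, Bool.and_eq_true, Nat.beq_eq, List.all_eq_true] at hS
  obtain ⟨hlen, hrows⟩ := hS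
  rw [dmul_eq_map]
  refine List.ext_getElem (by simp [enc, hlen]) fun i h1 h2 => ?_
  have hi : i < S.length := by simpa using h1
  have hlt := okRow_spec n _ (hrows S[i] (List.getElem_mem hi))
  simp only [List.getElem_map, enc, List.getElem_ofFn]
  rw [dot_ofFn n n _ _, red_packF _ fun j => ?_]
  · congr 1
    funext j
    rw [← ZMod.val_natCast, Nat.cast_sum, Matrix.mul_apply]
    congr 1
    refine Finset.sum_congr rfl fun k _ => ?_
    simp only [toMat, Matrix.of_apply, List.getD_eq_getElem _ _ hi, Nat.cast_mul, ZMod.natCast_zmod_val]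
  · refine le_trans (Finset.sum_le_sum (g := fun _ => 2 * 2) fun k _ => ?_) ?_
    · exact Nat.mul_le_mul (Nat.le_of_lt_succ (hlt k k.isLt)) (Nat.le_of_lt_succ (ZMod.val_lt _))
    · simp only [Finset.sum_const, Finset.card_univ, Fintype.card_fin, smul_eq_mul]
      omega

/-- the packed identity in degree 248 -/
def idEnc : List ℕ := (List.range 248).map fun i => 2 ^ (20 * i)

theorem enc_one : enc (1 : Mat 248) = idEnc := by decide +kernel

/-- the packed value of a word in matrices -/
noncomputable def evalWord (M : ℕ → List ℕ) (w : List ℕ) : List ℕ :=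
  List.rec (motive := fun _ => List ℕ) idEnc (fun x _ ih => dmul (maskN 248) (M x) ih) w

theorem evalWord_eq {M : ℕ → List ℕ} : ∀ {w : List ℕ}, (∀ x ∈ w, rowsOK 248 (M x) = true) →
    evalWord M w = enc (w.map fun x => toMat 248 (M x)).prod
  | [], _ => by rw [List.map_nil, List.prod_nil, enc_one]; rfl
  | x :: w, h => by
    rw [List.map_cons, List.prod_cons, ← dmul_enc le_rfl (h x List.mem_cons_self),
      ← evalWord_eq fun y hy => h y (List.mem_cons_of_mem _ hy)]
    rfl

end CfsgLib.Sporadic.ThPres.Rep
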